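import Groth.Prelude.Def_QCohCat
import Groth.Agent.Lib.QCoh.Abelian
import Groth.Agent.Lib.OX.Exact
import Mathlib.CategoryTheory.Abelian.Subcategory
import Mathlib.CategoryTheory.Abelian.GrothendieckCategory.Basic
import Mathlib.CategoryTheory.Preadditive.LeftExact
import Mathlib.CategoryTheory.Preadditive.AdditiveFunctor
import Mathlib.CategoryTheory.Limits.FullSubcategory

/-!
# Quasi-coherent modules form an abelian category with exact filtered colimits
-/

set_option autoImplicit false
set_option linter.style.haveILetI false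

universe u

open CategoryTheory CategoryTheory.Limits AlgebraicGeometry

noncomputable section

namespace GrothLib.QCohCat20

variable {X : Scheme.{u}}

instance : (QCohCat.isQCoh X).IsClosedUnderIsomorphisms where
  of_iso {M N} e hM := by
    haveI : M.IsQuasicoherent := hM
    exact QCoh.isQuasicoherent_of_iso e

instance : (QCohCat.isQCoh X).IsClosedUnderKernels where
  kernels_le := by
    rintro Z ⟨f, k, hk, hf⟩
    obtain ⟨hA, hB⟩ := hf
    rename_i A B
    haveI : A.IsQuasicoherent := hA
    haveI : B.IsQuasicoherent := hB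
    exact (QCohCat.isQCoh X).prop_of_iso ((kernelIsKernel f).conePointUniqueUpToIso hk)
      (QCoh.isQuasicoherent_kernel f)

instance : (QCohCat.isQCoh X).IsClosedUnderCokernels where
  cokernels_le := by
    rintro Z ⟨f, k, hk, hf⟩
    obtain ⟨hA, hB⟩ := hf
    rename_i A B
    haveI : A.IsQuasicoherent := hA
    haveI : B.IsQuasicoherent := hB
    exact (QCohCat.isQCoh X).prop_of_iso ((cokernelIsCokernel f).coconePointUniqueUpToIso hk)
      (QCoh.isQuasicoherent_cokernel f)

instance closedUnderColimits (J : Type u) [SmallCategory J] : (QCohCat.isQCoh X).IsClosedUnderColimitsOfShape J where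
  colimitsOfShape_le := by
    rintro Z ⟨p⟩
    exact (QCohCat.isQCoh X).prop_of_iso ((colimit.isColimit _).coconePointUniqueUpToIso p.isColimit)
      (QCoh.isQuasicoherent_colimit p.diag p.prop_diag_obj)

theorem isQuasicoherent_finSigma {J : Type} [Finite J] (F : J → X.Modules) (hF : ∀ j, (F j).IsQuasicoherent) :
    (∐ F).IsQuasicoherent := by
  let G : ULift.{u} J → X.Modules := fun j => F j.down
  have := QCoh.isQuasicoherent_colimit (Discrete.functor G) (fun j => hF j.as.down)
  exact QCoh.isQuasicoherent_of_iso (M := colimit (Discrete.functor G)) (Sigma.reindex Equiv.ulift F)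

instance : (QCohCat.isQCoh X).ContainsZero where
  exists_zero :=
    ⟨_, (IsZero.iff_id_eq_zero _).2 (colimit.hom_ext fun i => i.as.elim),
      QCoh.isQuasicoherent_colimit (Discrete.functor fun i : PEmpty.{u + 1} => (i.elim : X.Modules)) fun i => i.as.elim⟩

instance : (QCohCat.isQCoh X).IsClosedUnderFiniteProducts where
  isClosedUnderLimitsOfShape J _ := ⟨by
    rintro Z ⟨p⟩
    haveI : Fintype J := Fintype.ofFinite J
    haveI : HasFiniteBiproducts X.Modules := HasFiniteBiproducts.of_hasFiniteProducts
    let F : J → X.Modules := fun j => p.diag.obj ⟨j⟩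
    have h : (∏ᶜ F).IsQuasicoherent := by
      haveI := isQuasicoherent_finSigma F fun j => p.prop_diag_obj ⟨j⟩
      exact QCoh.isQuasicoherent_of_iso ((biproduct.isoCoproduct F).symm ≪≫ biproduct.isoProduct F)
    refine (QCohCat.isQCoh X).prop_of_iso ?_ h
    exact HasLimit.isoOfNatIso (Discrete.natIsoFunctor (F := p.diag)).symm ≪≫
      (limit.isLimit _).conePointUniqueUpToIso p.isLimit⟩

instance : HasColimits (QCohCat.QCoh X) where
  has_colimits_of_shape _ _ := hasColimitsOfShape_of_closedUnderColimits _ (QCohCat.isQCoh X)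

instance : HasFilteredColimitsOfSize.{u, u} (QCohCat.QCoh X) := ⟨fun _ _ _ => inferInstance⟩

theorem preservesFiniteLimits_ι : PreservesFiniteLimits (QCohCat.isQCoh X).ι :=
  haveI : ∀ {A B : QCohCat.QCoh X} (f : A ⟶ B), PreservesLimit (parallelPair f 0) (QCohCat.isQCoh X).ι :=
    fun {A B} f => (QCohCat.isQCoh X).preservesKernels_ι f
  Functor.preservesFiniteLimits_of_preservesKernels _

instance ab5 : AB5OfSize.{u, u} (QCohCat.QCoh X) where
  ofShape J _ _ :=
    haveI := preservesFiniteLimits_ι (X := X)
    haveI : ReflectsFiniteLimits (QCohCat.isQCoh X).ι := ⟨fun _ _ _ => inferInstance⟩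
    HasExactColimitsOfShape.domain_of_functor J (QCohCat.isQCoh X).ι

instance : LocallySmall.{u} (QCohCat.QCoh X) := ⟨fun _ _ => inferInstance⟩

/-- A separator makes the category of quasi-coherent modules a Grothendieck abelian category. -/
theorem isGrothendieckAbelian [HasSeparator (QCohCat.QCoh X)] : IsGrothendieckAbelian.{u} (QCohCat.QCoh X) := {}

end GrothLib.QCohCat20
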