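import Groth.Agent.Lib.QCohCat20.Category
import Groth.Agent.Lib.HomColim20.FP
import Groth.Agent.Lib.HomColim20.Pushforward
import Groth.Agent.Lib.FPMod20.Presentable
import Groth.Agent.Lib.FlatFP.Kernel
import Groth.Agent.Lib.QCoh.Qcqs
import Mathlib.CategoryTheory.Presentable.Finite

/-!
# Compact quasi-coherent modules are the finitely presented ones
-/

set_option autoImplicit false
set_option linter.style.haveILetI false

universe u

open CategoryTheory CategoryTheory.Limits AlgebraicGeometry Opposite TopologicalSpace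

noncomputable section

namespace GrothLib.QCohCat20

variable {X : Scheme.{u}}

/-- The inclusion commutes with colimits. -/
theorem preservesColimit_ι {J : Type u} [SmallCategory J] (D : J ⥤ QCohCat.QCoh X) :
    PreservesColimit D (QCohCat.isQCoh X).ι := inferInstance

/-- A module of finite presentation is compact. -/
theorem isFinitelyPresentable_of_isFP [CompactSpace X] [QuasiSeparatedSpace X] (F : QCohCat.QCoh X)
    (hF : CohB1.IsFP F.obj) : IsFinitelyPresentable.{u} F := by
  rw [isFinitelyPresentable_iff_preservesFilteredColimitsOfSize]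
  refine ⟨fun J _ _ => ⟨fun {D} => ⟨fun {c} hc => ⟨?_⟩⟩⟩⟩
  haveI := preservesColimit_ι D
  let hc' := isColimitOfPreserves (QCohCat.isQCoh X).ι hc
  refine Types.FilteredColimit.isColimitOf' _ _ (fun (φ : F ⟶ c.pt) => ?_)
    (fun i (g g' : F ⟶ D.obj i) h => ?_)
  · obtain ⟨j, g, hg⟩ := HomColim20.exists_factor hF hc' φ.hom
    exact ⟨j, ObjectProperty.homMk g, (ObjectProperty.hom_ext _ hg).symm⟩
  · obtain ⟨k, f, hf⟩ := HomColim20.exists_eq hF hc' g.hom g'.hom
      (congrArg (fun ψ : F ⟶ c.pt => ψ.hom) h)
    exact ⟨k, f, ObjectProperty.hom_ext _ hf⟩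

theorem quasiCompact_fromSpec [QuasiSeparatedSpace X] {U : X.Opens} (hU : IsAffineOpen U) :
    QuasiCompact hU.fromSpec := by
  refine ⟨fun K hKo hKc => ?_⟩
  rw [hU.fromSpec.isOpenEmbedding.isInducing.isCompact_iff, Set.image_preimage_eq_inter_range,
    show Set.range hU.fromSpec.base = (U : Set X) from hU.range_fromSpec]
  exact QuasiSeparatedSpace.inter_isCompact _ _ hKo hKc U.isOpen hU.isCompact

/-- A retract of a finitely presented module is finitely presented. -/
theorem finitePresentation_of_retract {R : Type u} [CommRing R] {M P : ModuleCat.{u} R}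
    [Module.FinitePresentation R P] (p : P ⟶ M) (s : M ⟶ P) (h : s ≫ p = 𝟙 M) :
    Module.FinitePresentation R M := by
  have hsp : ∀ m, p.hom (s.hom m) = m := fun m => ConcreteCategory.congr_hom h m
  refine Module.finitePresentation_of_surjective p.hom (fun m => ⟨_, hsp m⟩) ?_
  have : LinearMap.ker p.hom = LinearMap.range (LinearMap.id - s.hom ∘ₗ p.hom) := by
    refine le_antisymm (fun x hx => ⟨x, ?_⟩) ?_
    on_goal 1 =>
      rintro _ ⟨x, rfl⟩
      rw [LinearMap.mem_ker, LinearMap.sub_apply, map_sub, LinearMap.id_apply, LinearMap.comp_apply, hsp,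
        sub_self]
    rw [LinearMap.sub_apply, LinearMap.id_apply, LinearMap.comp_apply, LinearMap.mem_ker.1 hx,
      map_zero, sub_zero]
  rw [this, LinearMap.range_eq_map]
  exact Submodule.FG.map _ Module.Finite.fg_top

variable [QuasiSeparatedSpace X]

/-- The sections of a compact object over an affine open are finitely presented. -/
theorem finitePresentation_of_compact (F : QCohCat.QCoh X) [IsFinitelyPresentable.{u} F]
    {U : X.Opens} (hU : IsAffineOpen U) : Module.FinitePresentation Γ(X, U) Γ(F.obj, U) := by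
  let j := hU.fromSpec
  haveI : IsOpenImmersion j := inferInstanceAs (IsOpenImmersion hU.fromSpec)
  haveI : QuasiCompact j := quasiCompact_fromSpec hU
  haveI : QuasiSeparatedSpace (Spec Γ(X, U)) := inferInstance
  haveI : F.obj.IsQuasicoherent := F.property
  let N : ModuleCat.{u} Γ(X, U) := moduleSpecΓFunctor.obj (F.obj.restrict j)
  have hiso : IsIso (Scheme.Modules.fromTildeΓ (F.obj.restrict hU.fromSpec)) :=
    (QCoh.isIso_fromTildeΓ_restrict_iff hU F.obj).2 fun g =>
      QCoh.smulLift_and_smulSep_of_isAffineOpen hU F.obj g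
  let θ : (tilde.functor Γ(X, U)).obj N ≅ F.obj.restrict j :=
    @asIso _ _ _ _ (Scheme.Modules.fromTildeΓ (F.obj.restrict hU.fromSpec)) hiso
  let T : ModuleCat.{u} Γ(X, U) ⥤ QCohCat.QCoh X :=
    (QCohCat.isQCoh X).lift (tilde.functor Γ(X, U) ⋙ Scheme.Modules.pushforward j)
      fun M => @QCoh.isQuasicoherent_pushforward _ _ j _ _ _ (by exact inferInstanceAs (tilde M).IsQuasicoherent)
  haveI : PreservesFilteredColimitsOfSize.{u, u} T := ⟨fun J _ _ => ⟨fun {D} => by
    haveI : PreservesColimit (D ⋙ tilde.functor Γ(X, U)) (Scheme.Modules.pushforward j) :=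
      HomColim20.preservesColimit_pushforward j
    haveI : PreservesColimit D (tilde.functor Γ(X, U)) :=
      (tilde.adjunction (R := Γ(X, U))).leftAdjoint_preservesColimits.preservesColimitsOfShape.preservesColimit
    haveI : PreservesColimit D (T ⋙ (QCohCat.isQCoh X).ι) :=
      inferInstanceAs (PreservesColimit D (tilde.functor Γ(X, U) ⋙ Scheme.Modules.pushforward j))
    exact preservesColimit_of_reflects_of_preserves T (QCohCat.isQCoh X).ι⟩⟩
  haveI := FPMod20.preservesColimitsOfShape_over N T
  obtain ⟨hN⟩ := FPMod20.isDenseAt (M := N)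
  have hTN := isColimitOfPreserves T hN
  let e : F ⟶ T.obj N :=
    ObjectProperty.homMk ((Scheme.Modules.restrictAdjunction j).homEquiv _ _ θ.inv)
  -- factor through a stage
  let E := equivSmallModel.{u} (FPMod20.Over' N)
  haveI : IsFiltered (SmallModel.{u} (FPMod20.Over' N)) := IsFiltered.of_equivalence E
  obtain ⟨a, g, hg⟩ := IsFinitelyPresentable.exists_hom_of_isColimit.{u}
    (hTN.whiskerEquivalence E.symm) e
  let Y := E.inverse.obj a
  change g ≫ T.map ((FPMod20.canonical N).ι.app Y) = e at hg
  rw [FPMod20.canonical_ι_app] at hg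
  let g' : F.obj.restrict j ⟶ (tilde.functor Γ(X, U)).obj Y.left.obj :=
    ((Scheme.Modules.restrictAdjunction j).homEquiv _ _).symm g.hom
  have hg' : g' ≫ (tilde.functor Γ(X, U)).map Y.hom = θ.inv := by
    refine ((Scheme.Modules.restrictAdjunction j).homEquiv_naturality_right_symm g.hom
      ((tilde.functor Γ(X, U)).map Y.hom)).symm.trans ?_
    rw [Equiv.symm_apply_eq]
    exact congrArg (fun ψ : F ⟶ T.obj N => ψ.hom) hg
  obtain ⟨s, hs⟩ := (tilde.functor Γ(X, U)).map_surjective (θ.hom ≫ g')
  haveI : Module.FinitePresentation Γ(X, U) Y.left.obj := Y.left.property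
  have : Module.FinitePresentation Γ(X, U) N := @finitePresentation_of_retract _ _ _ _ Y.left.property Y.hom s (by
    refine (tilde.functor Γ(X, U)).map_injective ?_
    rw [Functor.map_comp, hs, Category.assoc, hg', Iso.hom_inv_id, CategoryTheory.Functor.map_id])
  exact Module.FinitePresentation.of_equiv (R := Γ(X, U)) (M := N) (QCoh.topLinearEquiv hU F.obj)

/-- A compact object is finitely presented. -/
theorem isFP_of_isFinitelyPresentable (F : QCohCat.QCoh X) [IsFinitelyPresentable.{u} F] :
    CohB1.IsFP F.obj :=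
  haveI : F.obj.IsQuasicoherent := F.property
  FlatFP.isFP_of_sections F.obj (fun U : X.affineOpens => U.1) (iSup_affineOpens_eq_top X)
    (fun U => U.2) fun U => finitePresentation_of_compact F U.2

end GrothLib.QCohCat20
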