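import Groth.Agent.Lib.QCohCat20.Category
import Groth.Agent.Lib.QCoh.LocGenCases
import Groth.Agent.Lib.QCoh.TildeFinite
import Groth.Agent.Lib.OX.Support
import Groth.Agent.Lib.AffHom.Basic
import Groth.Agent.Lib.FittSheaf.Pullback

/-!
# A separator of quasi-coherent modules on a quasi-compact quasi-separated scheme
-/

set_option autoImplicit false
set_option linter.style.haveILetI false

universe u

open CategoryTheory CategoryTheory.Limits AlgebraicGeometry TopologicalSpace

noncomputable section

namespace GrothLib.QCohCat20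

variable {X : Scheme.{u}}

/-- Through every section over an affine open passes a quasi-coherent submodule of finite type. -/
theorem exists_finiteType_through_section [CompactSpace X] [QuasiSeparatedSpace X] (F : X.Modules)
    [F.IsQuasicoherent] (U : X.affineOpens) (s : Γ(F, U.1)) :
    ∃ (G : X.Modules) (i : G ⟶ F), Mono i ∧ G.IsQuasicoherent ∧ CohB1.IsFT G ∧ ∃ g, i.app U.1 g = s := by
  obtain ⟨ι, _, V, hVA, -, hcov⟩ := QCoh.exists_finite_affine_cover (U := (⊤ : X.Opens))
    (by simpa using isCompact_univ)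
  let e := Fintype.equivFin ι
  let P := QCoh.SubData.gen (F := F) ({s} : Set Γ(F, U.1))
  have hP : QCoh.SubData.LocGen P U.1 := fun x hx ↦
    ⟨U.1, U.2, hx, le_rfl, {s}, Set.finite_singleton s, fun _ _ ↦ rfl⟩
  obtain ⟨Q, hQ, hQU⟩ := hP.exists_extension (fun l ↦ V (e.symm l)) (fun l ↦ hVA _) U.1
    (eq_top_iff.2 (hcov.trans (le_sup_of_le_right (iSup_le fun j ↦
      le_iSup_of_le (f := fun l ↦ V (e.symm l)) (e j) (by simp)))))
    (fun l ↦ by
      rw [inf_sup_left, inf_iSup_eq, Opens.coe_sup, Opens.coe_iSup]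
      exact (QuasiSeparatedSpace.inter_isCompact _ _ (V _).isOpen (hVA _).isCompact U.1.isOpen U.2.isCompact).union
        (isCompact_iUnion fun m ↦ QuasiSeparatedSpace.inter_isCompact _ _ (V _).isOpen
          (hVA _).isCompact (V _).isOpen (hVA _).isCompact))
  have hs : s ∈ Q.sec U.1 := by
    rw [hQU U.1 le_rfl]
    exact QCoh.SubData.mem_gen_of_mem_span le_rfl
      (Submodule.subset_span ⟨s, rfl, QCoh.rr_self _ s⟩)
  have : Mono Q.ι :=
    (Scheme.Modules.toPresheaf X).mono_of_mono_map
      (@NatTrans.mono_of_mono_app _ _ _ _ _ _ _ fun T ↦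
        (AddCommGrpCat.mono_iff_injective _).2 (Q.ι_app_injective T.unop))
  exact ⟨Q.obj, Q.ι, this, hQ.isQuasicoherent, hQ.isFiniteType, Q.lift s hs, rfl⟩

/-- A finite type quasi-coherent module on an affine scheme is the tilde of a quotient of a free module. -/
theorem exists_iso_tilde_quotient {R : CommRingCat.{u}} (G : (Spec R).Modules) [G.IsQuasicoherent]
    (hG : CohB1.IsFT G) : ∃ (n : ℕ) (N : Submodule R (Fin n → R)),
      Nonempty (G ≅ tilde (ModuleCat.of R ((Fin n → R) ⧸ N))) := by
  haveI : Module.Finite R ((moduleSpecΓFunctor (R := R)).obj G) := QCoh.moduleFinite_top_spec G hG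
  obtain ⟨n, f, hf⟩ := Module.Finite.exists_fin' R ((moduleSpecΓFunctor (R := R)).obj G)
  haveI : IsIso G.fromTildeΓ := Scheme.Modules.isIso_fromTildeΓ_of_isQuasicoherent G
  exact ⟨n, LinearMap.ker f, ⟨(asIso G.fromTildeΓ).symm ≪≫
    (tilde.functor R).mapIso (LinearMap.quotKerEquivOfSurjective f hf).symm.toModuleIso⟩⟩

variable {m : ℕ} (V : Fin m → X.Opens) (hV : ∀ j, IsAffineOpen (V j))

/-- Presentation data on a finite affine cover. -/
abbrev Data : Type u := ∀ j : Fin m, Σ n : ℕ, Submodule Γ(X, V j) (Fin n → Γ(X, V j))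

/-- The product of the pushforwards of presented modules. -/
abbrev bound (d : Data V) : X.Modules :=
  ∏ᶜ fun j => (Scheme.Modules.pushforward (hV j).fromSpec).obj
    (tilde (ModuleCat.of Γ(X, V j) ((Fin (d j).1 → Γ(X, V j)) ⧸ (d j).2)))

theorem exists_mono_bound (hcov : ∀ x : X, ∃ j, x ∈ V j) (G : X.Modules) [G.IsQuasicoherent]
    (hG : CohB1.IsFT G) : ∃ (d : Data V) (φ : G ⟶ bound V hV d), Mono φ := by
  have h : ∀ j : Fin m, ∃ (n : ℕ) (N : Submodule Γ(X, V j) (Fin n → Γ(X, V j))),
      Nonempty (G.restrict (hV j).fromSpec ≅ tilde (ModuleCat.of Γ(X, V j) ((Fin n → Γ(X, V j)) ⧸ N))) := fun j => by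
    have hc : Coh.IsCoh ((Scheme.Modules.pullback (hV j).fromSpec).obj G) :=
      haveI := FittSheaf.isQuasicoherent_pullback (hV j).fromSpec G
      ⟨inferInstance, (QCoh.isFiniteType_iff_moduleFinite _).2 fun W hW =>
        FittSheaf.moduleFinite_pullback (hV j).fromSpec G hG hW⟩
    exact exists_iso_tilde_quotient _
      (QCoh.isCoh_of_iso ((Scheme.Modules.restrictFunctorIsoPullback (hV j).fromSpec).app G).symm hc).2
  choose n N e using h
  refine ⟨fun j => ⟨n j, N j⟩, Pi.lift fun j =>
    (Scheme.Modules.restrictAdjunction (hV j).fromSpec).unit.app G ≫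
      (Scheme.Modules.pushforward (hV j).fromSpec).map (e j).some.hom, ?_⟩
  set φ := Pi.lift fun j => (Scheme.Modules.restrictAdjunction (hV j).fromSpec).unit.app G ≫
      (Scheme.Modules.pushforward (hV j).fromSpec).map (e j).some.hom with hφ
  refine Preadditive.mono_of_kernel_zero ((OX.isZero_of_subsingleton_stalks _ fun x => ?_).eq_zero_of_src _)
  obtain ⟨j, hx⟩ := hcov x
  have hz : IsZero ((Scheme.Modules.restrictFunctor (hV j).fromSpec).obj (kernel φ)) := by
    have h0 : (Scheme.Modules.restrictFunctor (hV j).fromSpec).map (kernel.ι φ) = 0 := by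
      have hj : kernel.ι φ ≫ (Scheme.Modules.restrictAdjunction (hV j).fromSpec).unit.app G = 0 := by
        rw [← cancel_mono ((Scheme.Modules.pushforward (hV j).fromSpec).map (e j).some.hom), Category.assoc,
          Limits.zero_comp]
        have := kernel.condition φ =≫ Pi.π _ j
        rwa [Category.assoc, hφ, Pi.lift_π, Limits.zero_comp] at this
      have := congrArg (fun a => (Scheme.Modules.restrictFunctor (hV j).fromSpec).map a ≫
        (Scheme.Modules.restrictAdjunction (hV j).fromSpec).counit.app _) hj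
      simpa using this
    exact IsZero.of_mono_eq_zero _ h0
  refine not_not.1 fun hx' => OX.support_subset_of_isZero_restrict (hV j).fromSpec hz hx' ?_
  rw [(hV j).range_fromSpec]
  exact hx

/-- A quasi-compact quasi-separated scheme has a separator of its quasi-coherent modules. -/
theorem hasSeparator [CompactSpace X] [QuasiSeparatedSpace X] : HasSeparator (QCohCat.QCoh X) := by
  classical
  obtain ⟨ι, _, V, hVA, -, hcov⟩ := QCoh.exists_finite_affine_cover (U := (⊤ : X.Opens))
    (by simpa using isCompact_univ)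
  let e := Fintype.equivFin ι
  let W : Fin (Fintype.card ι) → X.Opens := fun l => V (e.symm l)
  have hW : ∀ l, IsAffineOpen (W l) := fun l => hVA _
  have hcov' : ∀ x : X, ∃ l, x ∈ W l := fun x => by
    obtain ⟨i, hi⟩ := Opens.mem_iSup.1 (hcov (Set.mem_univ x))
    exact ⟨e i, by simpa [W] using hi⟩
  let I : Type u := Σ d : Data W, {S : Shrink.{u} (Subobject (bound W hW d)) //
    (((equivShrink _).symm S : Subobject (bound W hW d)) : X.Modules).IsQuasicoherent}
  let obj : I → QCohCat.QCoh X := fun i =>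
    ⟨(((equivShrink _).symm i.2.1 : Subobject (bound W hW i.1)) : X.Modules), i.2.2⟩
  have hsep : (ObjectProperty.ofObj obj).IsSeparating := by
    intro M N f g h
    haveI : M.obj.IsQuasicoherent := M.property
    refine ObjectProperty.hom_ext _ (AffHom.hom_ext fun U s => ?_)
    obtain ⟨G, i, hi, hGq, hGf, a, rfl⟩ := exists_finiteType_through_section M.obj U s
    obtain ⟨d, φ, hφ⟩ := exists_mono_bound W hW hcov' G hGf
    let ψ : (((equivShrink _).symm (equivShrink _ (Subobject.mk φ)) : Subobject (bound W hW d)) : X.Modules) ≅ G :=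
      eqToIso (by rw [Equiv.symm_apply_apply]) ≪≫ Subobject.underlyingIso φ
    let k : I := ⟨d, ⟨equivShrink _ (Subobject.mk φ), QCoh.isQuasicoherent_of_iso ψ.symm⟩⟩
    have hh := congrArg (fun q : obj k ⟶ N => q.hom)
      (h (obj k) (ObjectProperty.ofObj.mk k) (ObjectProperty.homMk (ψ.hom ≫ i)))
    have h2 : i ≫ f.hom = i ≫ g.hom := by
      rw [← cancel_epi ψ.hom]
      simpa using hh
    exact congrArg (fun q : G ⟶ N.obj => q.app U.1 a) h2
  exact ⟨⟨_, ObjectProperty.IsSeparating.isSeparator_coproduct (f := obj) hsep⟩⟩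

end GrothLib.QCohCat20
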