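import Groth.Agent.Lib.QCohCat20.Category
import Groth.Agent.Lib.QCoh.LocGen
import Groth.Agent.Lib.QCoh.FT
import Groth.Agent.Lib.OX.Support
import Groth.Agent.Lib.AffHom.Basic
import Mathlib.CategoryTheory.Adjunction.AdjointFunctorTheorems
import Mathlib.CategoryTheory.Abelian.GrothendieckCategory.EnoughInjectives

/-!
# A separator of quasi-coherent modules on an arbitrary scheme

Through every section over an affine open passes a quasi-coherent submodule whose sections over each
affine open are spanned by a family indexed by a set depending only on the scheme.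
-/

set_option autoImplicit false
set_option linter.style.haveILetI false

universe u

open CategoryTheory CategoryTheory.Limits AlgebraicGeometry Opposite TopologicalSpace

noncomputable section

namespace GrothLib.QCohCat20

open GrothLib.QCoh (rr rr_rr rr_self rr_smul SubData)

variable {X : Scheme.{u}}

/-- The steps from the affine open `i` to the affine open `j`. -/
abbrev Step (i j : X.affineOpens) : Type u := {a : Γ(X, j.1) // X.basicOpen a ≤ i.1}

/-- Chains of `n` steps from `i₀` to `j`. -/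
def Lvl (i₀ : X.affineOpens) : ℕ → X.affineOpens → Type u
  | 0, j => ULift.{u} (PLift (i₀ = j))
  | n + 1, j => Σ i : X.affineOpens, Lvl i₀ n i × Step i j

/-- The index set of the generators on `j`. -/
abbrev Idx (i₀ j : X.affineOpens) : Type u := Σ n : ℕ, Lvl i₀ n j

section Closure

variable (F : X.Modules) [F.IsQuasicoherent]

theorem exists_step {i j : X.affineOpens} (k : Step i j) (s : Γ(F, i.1)) :
    ∃ (n : ℕ) (t : Γ(F, j.1)), rr (X.basicOpen_le k.1) t =
      (X.presheaf.map (homOfLE (X.basicOpen_le k.1)).op k.1) ^ n • rr k.2 s :=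
  (QCoh.smulLift_and_smulSep_of_isAffineOpen j.2 F k.1).1 (rr k.2 s)

/-- The section obtained by a step. -/
def stepSec {i j : X.affineOpens} (k : Step i j) (s : Γ(F, i.1)) : Γ(F, j.1) :=
  (exists_step F k s).choose_spec.choose

theorem rr_stepSec {i j : X.affineOpens} (k : Step i j) (s : Γ(F, i.1)) :
    ∃ n : ℕ, rr (X.basicOpen_le k.1) (stepSec F k s) =
      (X.presheaf.map (homOfLE (X.basicOpen_le k.1)).op k.1) ^ n • rr k.2 s :=
  ⟨_, (exists_step F k s).choose_spec.choose_spec⟩

variable {i₀ : X.affineOpens} (s₀ : Γ(F, i₀.1))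

/-- The section attached to a chain of steps. -/
def lvlVal : ∀ (n : ℕ) (j : X.affineOpens), Lvl i₀ n j → Γ(F, j.1)
  | 0, j, e => rr (by rw [(e.down.down : i₀ = j)]) s₀
  | n + 1, _, ⟨i, p, k⟩ => stepSec F k (lvlVal n i p)

/-- The generators on `j`. -/
def genSet (j : X.affineOpens) : Set Γ(F, j.1) := Set.range fun p : Idx i₀ j => lvlVal F s₀ p.1 j p.2

theorem rr_mem_gen {i : X.affineOpens} {s : Γ(F, i.1)} (hs : s ∈ genSet F s₀ i) (j : X.affineOpens)
    {T : X.Opens} (hT : T ≤ i.1) : rr hT s ∈ (SubData.gen (genSet F s₀ j)).sec T := by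
  obtain ⟨⟨n, p⟩, rfl⟩ := hs
  intro x hx hxj
  obtain ⟨a, ha, hxa⟩ := QCoh.exists_basicOpen_mem (T := T ⊓ i.1) j.2 hxj ⟨hx, hT hx⟩
  let k : Step i j := ⟨a, ha.trans inf_le_right⟩
  obtain ⟨m, hm⟩ := rr_stepSec F k (lvlVal F s₀ n i p)
  refine ⟨X.basicOpen a, ha.trans inf_le_left, X.basicOpen_le a, hxa, ?_⟩
  have hu : IsUnit (X.presheaf.map (homOfLE (X.basicOpen_le a)).op a) :=
    RingedSpace.isUnit_res_basicOpen X.toSheafedSpace a
  rw [rr_rr]
  refine (Submodule.smul_mem_iff_of_isUnit _ (hu.pow m)).1 ?_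
  rw [← hm]
  exact Submodule.subset_span ⟨_, ⟨⟨n + 1, ⟨i, p, k⟩⟩, rfl⟩, rfl⟩

/-- The submodule generated by the chains. -/
def closure : SubData F := SubData.inter fun j : X.affineOpens => SubData.gen (genSet F s₀ j)

theorem closure_sec (j : X.affineOpens) {T : X.Opens} (hT : T ≤ j.1) :
    (closure F s₀).sec T = (SubData.gen (genSet F s₀ j)).sec T := by
  ext s
  refine ⟨fun hs => (SubData.mem_inter _ s).1 hs j, fun hs => (SubData.mem_inter _ s).2 fun j' => ?_⟩
  refine (SubData.gen (genSet F s₀ j')).locality s fun x hx => ?_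
  obtain ⟨T', h, h', hxT, hmem⟩ := hs x hx (hT hx)
  refine ⟨T', homOfLE h, hxT, ?_⟩
  change rr h s ∈ _
  refine (Submodule.span_le.2 ?_) hmem
  rintro _ ⟨y, hy, rfl⟩
  exact rr_mem_gen F s₀ hy j' h'

theorem isQuasicoherent_closure : (closure F s₀).obj.IsQuasicoherent := by
  refine QCoh.isQuasicoherent_of_smulLift_of_smulSep _ (fun U : X.affineOpens => U.1)
    (iSup_affineOpens_eq_top X) (fun U => U.2) fun U g => ?_
  obtain ⟨hl, hs⟩ := QCoh.smulLift_and_smulSep_of_isAffineOpen U.2 F g
  set P := closure F s₀ with hP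
  refine ⟨fun s => ?_, fun t ht => ?_⟩
  · obtain ⟨n, t, ht⟩ := hl (P.ι.app _ s)
    have hmem : rr (X.basicOpen_le g) t ∈ P.sec (X.basicOpen g) := by
      change F.presheaf.map (homOfLE (X.basicOpen_le g)).op t ∈ _
      rw [ht]
      exact Submodule.smul_mem _ _ (P.ι_app_mem s)
    rw [hP, closure_sec F s₀ U (X.basicOpen_le g),
      SubData.mem_gen_iff (U.2.basicOpen g) (X.basicOpen_le g)] at hmem
    obtain ⟨m, hm⟩ := QCoh.exists_pow_smul_mem_span U.2 g _ t hmem
    have hm' : g ^ m • t ∈ P.sec U.1 := by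
      rw [hP, closure_sec F s₀ U le_rfl]
      refine SubData.mem_gen_of_mem_span le_rfl ?_
      simpa only [rr_self, Set.image_id'] using hm
    refine ⟨m + n, P.lift (g ^ m • t) hm', P.ι_app_injective _ ?_⟩
    change F.presheaf.map (homOfLE (X.basicOpen_le g)).op (g ^ m • t) =
      (X.presheaf.map (homOfLE (X.basicOpen_le g)).op g) ^ (m + n) • P.ι.app _ s
    erw [F.map_smul]
    rw [ht, pow_add, mul_smul, map_pow]
  · obtain ⟨n, hn⟩ := hs (P.ι.app U.1 t) (congrArg Subtype.val ht)
    exact ⟨n, P.ι_app_injective _ hn⟩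

theorem mem_closure : s₀ ∈ (closure F s₀).sec i₀.1 := by
  rw [closure_sec F s₀ i₀ le_rfl]
  refine SubData.mem_gen_of_mem_span le_rfl (Submodule.subset_span ⟨_, ⟨⟨0, ⟨⟨rfl⟩⟩⟩, rfl⟩, ?_⟩)
  exact (rr_self _ _).trans (rr_self _ _)

theorem span_closure (j : X.affineOpens) :
    ∃ f : Idx i₀ j → Γ((closure F s₀).obj, j.1), Submodule.span Γ(X, j.1) (Set.range f) = ⊤ := by
  have hmem : ∀ p : Idx i₀ j, lvlVal F s₀ p.1 j p.2 ∈ (closure F s₀).sec j.1 := fun p => by
    rw [closure_sec F s₀ j le_rfl]
    exact SubData.mem_gen_of_mem_span le_rfl (Submodule.subset_span ⟨_, ⟨p, rfl⟩, rr_self _ _⟩)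
  refine ⟨fun p => (closure F s₀).lift _ (hmem p), ?_⟩
  refine Submodule.map_injective_of_injective
    (f := QCoh.appLinear (closure F s₀).ι j.1) ((closure F s₀).ι_app_injective j.1) ?_
  rw [Submodule.map_span, Submodule.map_top, ← Set.range_comp]
  refine SetLike.coe_injective ?_
  refine Eq.trans ?_ ((closure F s₀).range_ι_app j.1).symm
  rw [closure_sec F s₀ j le_rfl]
  ext s
  rw [SetLike.mem_coe, SetLike.mem_coe, SubData.mem_gen_iff j.2 le_rfl]
  rw [show (rr (F := F) (le_refl j.1) '' genSet F s₀ j) = genSet F s₀ j by simp [rr_self]]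
  rfl

end Closure

theorem aff (j : X.affineOpens) : IsAffineOpen j.1 := j.2

/-- Presentation data on all affine opens. -/
abbrev BigData (i₀ : X.affineOpens) : Type u :=
  ∀ j : X.affineOpens, Submodule Γ(X, j.1) (Idx i₀ j →₀ Γ(X, j.1))

/-- The product of the pushforwards of presented modules. -/
abbrev bigBound {i₀ : X.affineOpens} (d : BigData i₀) : X.Modules :=
  ∏ᶜ fun j : X.affineOpens => (Scheme.Modules.pushforward (aff j).fromSpec).obj
    (tilde (ModuleCat.of Γ(X, j.1) ((Idx i₀ j →₀ Γ(X, j.1)) ⧸ d j)))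

theorem exists_iso_tilde {i₀ : X.affineOpens} (G : X.Modules) [G.IsQuasicoherent] (j : X.affineOpens)
    (f : Idx i₀ j → Γ(G, j.1)) (hf : Submodule.span Γ(X, j.1) (Set.range f) = ⊤) :
    ∃ N : Submodule Γ(X, j.1) (Idx i₀ j →₀ Γ(X, j.1)),
      Nonempty (G.restrict (aff j).fromSpec ≅
        tilde (ModuleCat.of Γ(X, j.1) ((Idx i₀ j →₀ Γ(X, j.1)) ⧸ N))) := by
  have hiso : IsIso (Scheme.Modules.fromTildeΓ (G.restrict (aff j).fromSpec)) :=
    (QCoh.isIso_fromTildeΓ_restrict_iff (aff j) G).2 fun g =>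
      QCoh.smulLift_and_smulSep_of_isAffineOpen j.2 G g
  let π : (Idx i₀ j →₀ Γ(X, j.1)) →ₗ[Γ(X, j.1)] Γ(G, j.1) := Finsupp.linearCombination _ f
  have hπ : Function.Surjective π := by
    rw [← LinearMap.range_eq_top, Finsupp.range_linearCombination, hf]
  let e : ((Idx i₀ j →₀ Γ(X, j.1)) ⧸ LinearMap.ker π) ≃ₗ[Γ(X, j.1)]
      (moduleSpecΓFunctor (R := Γ(X, j.1))).obj (G.restrict (aff j).fromSpec) :=
    (π.quotKerEquivOfSurjective hπ).trans (QCoh.topLinearEquiv (aff j) G).symm
  exact ⟨LinearMap.ker π, ⟨(@asIso _ _ _ _ (Scheme.Modules.fromTildeΓ (G.restrict (aff j).fromSpec)) hiso).symm ≪≫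
    (tilde.functor Γ(X, j.1)).mapIso e.symm.toModuleIso⟩⟩

theorem exists_mono_bigBound {i₀ : X.affineOpens} (G : X.Modules) [G.IsQuasicoherent]
    (hG : ∀ j : X.affineOpens, ∃ f : Idx i₀ j → Γ(G, j.1), Submodule.span Γ(X, j.1) (Set.range f) = ⊤) :
    ∃ (d : BigData i₀) (φ : G ⟶ bigBound d), Mono φ := by
  choose f hf using hG
  choose N e using fun j => exists_iso_tilde G j (f j) (hf j)
  refine ⟨N, Pi.lift fun j : X.affineOpens =>
    (Scheme.Modules.restrictAdjunction (aff j).fromSpec).unit.app G ≫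
      (Scheme.Modules.pushforward (aff j).fromSpec).map (e j).some.hom, ?_⟩
  set φ := Pi.lift fun j : X.affineOpens => (Scheme.Modules.restrictAdjunction (aff j).fromSpec).unit.app G ≫
      (Scheme.Modules.pushforward (aff j).fromSpec).map (e j).some.hom with hφ
  refine Preadditive.mono_of_kernel_zero ((OX.isZero_of_subsingleton_stalks _ fun x => ?_).eq_zero_of_src _)
  obtain ⟨j, hx⟩ := Opens.mem_iSup.1 ((iSup_affineOpens_eq_top X).ge (Opens.mem_top x))
  have hz : IsZero ((Scheme.Modules.restrictFunctor (aff j).fromSpec).obj (kernel φ)) := by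
    have h0 : (Scheme.Modules.restrictFunctor (aff j).fromSpec).map (kernel.ι φ) = 0 := by
      have hj : kernel.ι φ ≫ (Scheme.Modules.restrictAdjunction (aff j).fromSpec).unit.app G = 0 := by
        rw [← cancel_mono ((Scheme.Modules.pushforward (aff j).fromSpec).map (e j).some.hom), Category.assoc,
          Limits.zero_comp]
        have := kernel.condition φ =≫ Pi.π _ j
        rwa [Category.assoc, hφ, Pi.lift_π, Limits.zero_comp] at this
      have := congrArg (fun a => (Scheme.Modules.restrictFunctor (aff j).fromSpec).map a ≫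
        (Scheme.Modules.restrictAdjunction (aff j).fromSpec).counit.app _) hj
      simpa using this
    exact IsZero.of_mono_eq_zero _ h0
  refine not_not.1 fun hx' => OX.support_subset_of_isZero_restrict (aff j).fromSpec hz hx' ?_
  rw [(aff j).range_fromSpec]
  exact hx

/-- The quasi-coherent modules on any scheme have a separator. -/
theorem hasSeparator_general : HasSeparator (QCohCat.QCoh X) := by
  classical
  let I : Type u := Σ i₀ : X.affineOpens, Σ d : BigData i₀, {S : Shrink.{u} (Subobject (bigBound d)) //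
    (((equivShrink _).symm S : Subobject (bigBound d)) : X.Modules).IsQuasicoherent}
  let obj : I → QCohCat.QCoh X := fun i =>
    ⟨(((equivShrink _).symm i.2.2.1 : Subobject (bigBound i.2.1)) : X.Modules), i.2.2.2⟩
  have hsep : (ObjectProperty.ofObj obj).IsSeparating := by
    intro M N f g h
    haveI : M.obj.IsQuasicoherent := M.property
    refine ObjectProperty.hom_ext _ (AffHom.hom_ext fun U s => ?_)
    let P := closure M.obj s
    haveI := isQuasicoherent_closure M.obj s
    haveI : Mono P.ι := (Scheme.Modules.toPresheaf X).mono_of_mono_map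
      (@NatTrans.mono_of_mono_app _ _ _ _ _ _ _ fun T ↦
        (AddCommGrpCat.mono_iff_injective _).2 (P.ι_app_injective T.unop))
    obtain ⟨d, φ, hφ⟩ := exists_mono_bigBound P.obj (span_closure M.obj s)
    let ψ : (((equivShrink _).symm (equivShrink _ (Subobject.mk φ)) : Subobject (bigBound d)) : X.Modules) ≅ P.obj :=
      eqToIso (by rw [Equiv.symm_apply_apply]) ≪≫ Subobject.underlyingIso φ
    let k : I := ⟨U, d, ⟨equivShrink _ (Subobject.mk φ), QCoh.isQuasicoherent_of_iso ψ.symm⟩⟩
    have hh := congrArg (fun q : obj k ⟶ N => q.hom)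
      (h (obj k) (ObjectProperty.ofObj.mk k) (ObjectProperty.homMk (ψ.hom ≫ P.ι)))
    have h2 : P.ι ≫ f.hom = P.ι ≫ g.hom := by
      rw [← cancel_epi ψ.hom]
      simpa using hh
    exact congrArg (fun q : P.obj ⟶ N.obj => q.app U.1 (P.lift s (mem_closure M.obj s))) h2
  exact ⟨⟨_, ObjectProperty.IsSeparating.isSeparator_coproduct (f := obj) hsep⟩⟩

theorem isGrothendieckAbelian_general (X : Scheme.{u}) : IsGrothendieckAbelian.{u} (QCohCat.QCoh X) :=
  haveI := hasSeparator_general (X := X)
  isGrothendieckAbelian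

theorem enoughInjectives_general (X : Scheme.{u}) : EnoughInjectives (QCohCat.QCoh X) :=
  haveI := isGrothendieckAbelian_general X
  IsGrothendieckAbelian.enoughInjectives

/-- The coherator exists. -/
theorem isLeftAdjoint_ι (X : Scheme.{u}) : (QCohCat.isQCoh X).ι.IsLeftAdjoint := by
  haveI := hasSeparator_general (X := X)
  haveI := isGrothendieckAbelian_general X
  haveI : PreservesColimits (QCohCat.isQCoh X).ι := ⟨fun {J} _ => inferInstance⟩
  exact isLeftAdjoint_of_preservesColimits_of_isSeparating (isSeparator_separator (QCohCat.QCoh X)) _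

end GrothLib.QCohCat20
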