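import Groth.Agent.Lib.QCohCat20.Category
import Groth.Agent.Lib.Cohom.Serre
import Groth.Agent.Lib.QCoh.SupportExact
import Groth.Agent.Lib.QCoh.ClosedImmersion
import Groth.Agent.Lib.QCoh.Killed
import Groth.Agent.Lib.OX.SumSections
import Groth.Agent.Lib.OX.Support

/-!
# A scheme whose quasi-coherent modules form a module category is affine
-/

set_option autoImplicit false
set_option backward.isDefEq.respectTransparency.types false
set_option linter.style.haveILetI false

universe u

open CategoryTheory CategoryTheory.Limits AlgebraicGeometry Opposite TopologicalSpace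

noncomputable section

namespace GrothLib.QCohCat20

variable {X : Scheme.{u}}

open GrothLib.Cohom (appFun)

/-- The structure module, as an object of quasi-coherent modules. -/
abbrev str (X : Scheme.{u}) : QCohCat.QCoh X :=
  ⟨Coh.structureModule X, Cohom.isQuasicoherent_structureModule X⟩

/-- The unit section of the structure module. -/
abbrev one (U : X.Opens) : Γ(Coh.structureModule X, U) := (1 : Γ(X, U))

theorem map_one' {U V : X.Opens} (i : V ⟶ U) :
    (Coh.structureModule X).presheaf.map i.op (one U) = one V :=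
  map_one (X.presheaf.map i.op).hom

theorem app_smul_res {C : X.Modules} (π : Coh.structureModule X ⟶ C) {W : X.Opens} (s : Γ(X, W)) :
    π.app W (s : Γ(Coh.structureModule X, W)) =
      s • C.presheaf.map (homOfLE le_top).op (π.app ⊤ (one ⊤)) := by
  rw [QCoh.map_app, map_one']
  refine Eq.trans (congrArg (fun a => π.app W a) ?_) (Scheme.Modules.Hom.app_smul _ _ _)
  exact (mul_one s).symm

/-- A quotient of the structure module vanishes where the image of `1` does. -/
theorem subsingleton_stalk_of_germ_eq_zero {C : X.Modules} (π : Coh.structureModule X ⟶ C) [Epi π]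
    {x : X} (h : C.presheaf.germ ⊤ x trivial (π.app ⊤ (one ⊤)) = 0) :
    x ∉ CohB1.support C := by
  simp only [CohB1.support, Set.mem_ofPred_eq, not_not]
  obtain ⟨V, hxV, i₁, i₂, hV⟩ := TopCat.Presheaf.germ_eq C.presheaf x
    (show x ∈ (⊤ : X.Opens) from trivial) (show x ∈ (⊤ : X.Opens) from trivial) _ 0
    (h.trans (map_zero _).symm)
  rw [map_zero] at hV
  refine subsingleton_of_forall_eq 0 fun e => ?_
  obtain ⟨a, rfl⟩ := QCoh.stalkLin_surjective π x e
  obtain ⟨W, hxW, s, rfl⟩ := TopCat.Presheaf.exists_germ_eq (Coh.structureModule X).presheaf a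
  rw [QCoh.stalkLin_germ, ← QCoh.germ_map C (homOfLE (inf_le_left : W ⊓ V ≤ W)) ⟨hxW, hxV⟩,
    QCoh.map_app]
  refine (congrArg _ (app_smul_res π (W := W ⊓ V) _)).trans ?_
  rw [show C.presheaf.map (homOfLE (le_top : W ⊓ V ≤ ⊤)).op (π.app ⊤ (one ⊤)) = 0 from
    (Cohom.map_map_apply C i₁ (homOfLE (inf_le_right : W ⊓ V ≤ V)) _).symm.trans
      ((congrArg _ hV).trans (map_zero _)), smul_zero]
  exact map_zero _

/-- A quotient of the structure module vanishes where a function killing it is invertible. -/
theorem notMem_support_of_comp_eq_zero {C : X.Modules} (π : Coh.structureModule X ⟶ C) [Epi π]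
    (g : Coh.structureModule X ⟶ Coh.structureModule X) (hg : g ≫ π = 0) {x : X}
    (hx : x ∈ X.basicOpen (appFun g (1 : Γ(X, ⊤)))) : x ∉ CohB1.support C := by
  refine subsingleton_stalk_of_germ_eq_zero π ?_
  set f : Γ(X, ⊤) := appFun g (1 : Γ(X, ⊤))
  have h0 : π.app ⊤ f = 0 := by
    have : (g ≫ π).app ⊤ (1 : Γ(X, ⊤)) = 0 := by rw [hg]; rfl
    exact this
  have h1 : (X.presheaf.map (homOfLE (le_top (a := X.basicOpen f))).op f : Γ(X, X.basicOpen f)) •
      C.presheaf.map (homOfLE (le_top (a := X.basicOpen f))).op (π.app ⊤ (one ⊤)) = 0 := by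
    refine (app_smul_res π _).symm.trans ?_
    exact (QCoh.map_app π (homOfLE (le_top (a := X.basicOpen f))) f).symm.trans
      ((congrArg _ h0).trans (map_zero _))
  have hu : IsUnit (X.presheaf.map (homOfLE (le_top (a := X.basicOpen f))).op f) :=
    X.toRingedSpace.isUnit_res_basicOpen f
  rw [← QCoh.germ_map C (homOfLE (le_top (a := X.basicOpen f))) hx]
  rw [(hu.smul_eq_zero).1 h1, map_zero]

/-- Every closed subset is the support of a quasi-coherent quotient of the structure module. -/
theorem exists_quotient_support_eq (T : Closeds X) :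
    ∃ (C : QCohCat.QCoh X) (π : str X ⟶ C), Epi π.hom ∧ CohB1.support C.obj = T := by
  let I := Scheme.IdealSheafData.vanishingIdeal T
  haveI := Cohom.isQuasicoherent_structureModule X
  haveI := Cohom.isQuasicoherent_structureModule I.subscheme
  haveI := QCoh.isQuasicoherent_pushforward I.subschemeι (Coh.structureModule I.subscheme)
  haveI := QCoh.isQuasicoherent_kernel (ClSub.toSubscheme I)
  have hC := QCoh.isQuasicoherent_cokernel (kernel.ι (ClSub.toSubscheme I))
  refine ⟨⟨Abelian.coimage (ClSub.toSubscheme I), hC⟩,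
    ObjectProperty.homMk (Abelian.coimage.π (ClSub.toSubscheme I)),
    inferInstanceAs (Epi (Abelian.coimage.π _)), ?_⟩
  have hT : Set.range I.subschemeι = T := by
    rw [Scheme.IdealSheafData.range_subschemeι, Scheme.IdealSheafData.coe_support_vanishingIdeal]
  refine subset_antisymm ?_ ?_
  · rw [← hT]
    exact (QCoh.support_subset_of_mono (Abelian.factorThruCoimage (ClSub.toSubscheme I))).trans
      (QCoh.support_pushforward_subset_range I.subschemeι _)
  · rw [← hT]
    rintro _ ⟨z, rfl⟩
    by_contra hz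
    simp only [CohB1.support, Set.mem_ofPred_eq, not_not] at hz
    have h1 : QCoh.stalkLin (ClSub.toSubscheme I) (I.subschemeι z)
        ((Coh.structureModule X).presheaf.germ ⊤ _ trivial (1 : Γ(X, ⊤))) = 0 := by
      conv_lhs => rw [← Abelian.coimage.fac (ClSub.toSubscheme I)]
      rw [QCoh.stalkLin_comp]
      exact (congrArg _ (@Subsingleton.elim _ hz _ 0)).trans (map_zero _)
    rw [QCoh.stalkLin_germ] at h1
    have h2 := congrArg (QCoh.pushStalkHom I.subschemeι z (Coh.structureModule I.subscheme)).hom h1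
    erw [map_zero] at h2
    have h3 := (QCoh.pushStalkHom_germ I.subschemeι z (Coh.structureModule I.subscheme) ⊤ trivial _).symm.trans h2
    have h4 : (ClSub.toSubscheme I).app ⊤ (one ⊤) = one (I.subschemeι ⁻¹ᵁ ⊤) :=
      map_one (I.subschemeι.app ⊤).hom
    erw [h4] at h3
    obtain ⟨W, hzW, j₁, j₂, hW⟩ := TopCat.Presheaf.germ_eq (Coh.structureModule I.subscheme).presheaf z
      (show z ∈ I.subschemeι ⁻¹ᵁ ⊤ from trivial) (show z ∈ I.subschemeι ⁻¹ᵁ ⊤ from trivial)
      (one _) 0 (h3.trans (map_zero _).symm)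
    rw [map_zero, map_one'] at hW
    have h5 := congrArg (I.subscheme.presheaf.germ W z hzW).hom (hW : (1 : Γ(I.subscheme, W)) = 0)
    exact one_ne_zero ((map_one (I.subscheme.presheaf.germ W z hzW).hom).symm.trans
      (h5.trans (map_zero (I.subscheme.presheaf.germ W z hzW).hom)))

section Equivalence

variable {R : Type u} [CommRing R] (e : QCohCat.QCoh X ≌ ModuleCat.{u} R)

/-- The endomorphism of an object given by a scalar. -/
def scal (r : R) (F : QCohCat.QCoh X) : F ⟶ F :=
  e.functor.preimage (r • 𝟙 (e.functor.obj F))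

theorem map_scal (r : R) (F : QCohCat.QCoh X) :
    e.functor.map (scal e r F) = r • 𝟙 (e.functor.obj F) :=
  Functor.map_preimage _ _

theorem scal_naturality (r : R) {F G : QCohCat.QCoh X} (f : F ⟶ G) :
    f ≫ scal e r G = scal e r F ≫ f :=
  e.functor.map_injective (by simp [map_scal])

theorem scal_mul (a b : R) (F : QCohCat.QCoh X) : scal e (a * b) F = scal e b F ≫ scal e a F :=
  e.functor.map_injective (by simp [map_scal, smul_smul])

theorem scal_one (F : QCohCat.QCoh X) : scal e 1 F = 𝟙 F :=
  e.functor.map_injective (by simp [map_scal])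

theorem scal_add (a b : R) (F : QCohCat.QCoh X) : scal e (a + b) F = scal e a F + scal e b F :=
  haveI : e.functor.Additive := Functor.additive_of_preserves_binary_products _
  e.functor.map_injective (by rw [e.functor.map_add, map_scal, map_scal, map_scal, add_smul])

/-- The global function through which a scalar acts on the structure module. -/
def scalFun (r : R) : Γ(X, ⊤) := appFun (scal e r (str X)).hom (1 : Γ(X, ⊤))

theorem scalFun_one : scalFun e 1 = 1 := by
  rw [scalFun, scal_one]
  rfl

theorem scalFun_add (a b : R) : scalFun e (a + b) = scalFun e a + scalFun e b := by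
  rw [scalFun, scal_add]
  rfl

theorem scalFun_mul (a b : R) : scalFun e (a * b) = scalFun e a * scalFun e b := by
  rw [scalFun, scal_mul]
  change (scal e a (str X)).hom.app ⊤ (scalFun e b) = _
  rw [app_smul_res (scal e a (str X)).hom (scalFun e b), Cohom.map_self_apply, mul_comm]
  rfl

/-- The global function through which a scalar acts, as a ring morphism. -/
def scalHom : R →+* Γ(X, ⊤) where
  toFun := scalFun e
  map_one' := scalFun_one e
  map_mul' := scalFun_mul e
  map_zero' := by
    have := scalFun_add e 0 0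
    rw [add_zero] at this
    exact left_eq_add.1 this
  map_add' := scalFun_add e

theorem epi_hom {F G : QCohCat.QCoh X} (f : F ⟶ G) [Epi f] : Epi f.hom :=
  haveI : ∀ {A B : QCohCat.QCoh X} (g : A ⟶ B),
      PreservesColimit (parallelPair g 0) (QCohCat.isQCoh X).ι :=
    fun {_ _} g => (QCohCat.isQCoh X).preservesCokernels_ι g
  haveI : PreservesFiniteColimits (QCohCat.isQCoh X).ι :=
    Functor.preservesFiniteColimits_of_preservesCokernels _
  (QCohCat.isQCoh X).ι.map_epi f

/-- Where a scalar killing a quotient of the structure module is invertible, the quotient vanishes. -/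
theorem notMem_support_of_mem_basicOpen {C : QCohCat.QCoh X} (π : str X ⟶ C) [Epi π.hom] {r : R}
    (hr : r • 𝟙 (e.functor.obj C) = 0) {x : X} (hx : x ∈ X.basicOpen (scalHom e r)) :
    x ∉ CohB1.support C.obj := by
  have hc : scal e r C = 0 := e.functor.map_injective (by rw [map_scal, hr, Functor.map_zero])
  refine notMem_support_of_comp_eq_zero π.hom (scal e r (str X)).hom ?_ hx
  have h := scal_naturality e r π
  rw [hc, comp_zero] at h
  exact congrArg (fun q => q.hom) h.symm

theorem eq_zero_of_support_eq_empty {F : QCohCat.QCoh X} (h : CohB1.support F.obj = ∅) :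
    IsZero F :=
  (IsZero.iff_id_eq_zero F).2 (ObjectProperty.hom_ext _
    ((OX.isZero_of_subsingleton_stalks F.obj fun x =>
      QCoh.stalk_subsingleton_of_notMem (by simp [h])).eq_of_src _ _))

/-- The quotient of the structure module attached to a submodule of its image. -/
def quotMap (N : Submodule R (e.functor.obj (str X))) :
    str X ⟶ e.inverse.obj (ModuleCat.of R (e.functor.obj (str X) ⧸ N)) :=
  e.unit.app (str X) ≫ e.inverse.map (ModuleCat.ofHom N.mkQ)

instance (N : Submodule R (e.functor.obj (str X))) : Epi (quotMap e N) :=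
  have : Epi (ModuleCat.ofHom N.mkQ) := (ModuleCat.epi_iff_surjective _).2 N.mkQ_surjective
  epi_comp _ _

/-- If the quotient by `N` has empty support, then `N = ⊤`. -/
theorem eq_top_of_forall_notMem (N : Submodule R (e.functor.obj (str X)))
    (h : ∀ x, x ∉ CohB1.support (e.inverse.obj (ModuleCat.of R (e.functor.obj (str X) ⧸ N))).obj) :
    N = ⊤ := by
  have h1 := e.functor.map_isZero (eq_zero_of_support_eq_empty (Set.eq_empty_of_forall_notMem h))
  have h2 := ModuleCat.isZero_iff_subsingleton.1
    (h1.of_iso (e.counitIso.app (ModuleCat.of R (e.functor.obj (str X) ⧸ N))).symm)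
  exact Submodule.Quotient.subsingleton_iff.1 h2

theorem quotMap_app_mono {N N' : Submodule R (e.functor.obj (str X))} (hle : N ≤ N') {V : X.Opens}
    (h : (quotMap e N).hom.app V (one V) = 0) :
    (quotMap e N').hom.app V (one V) = 0 := by
  have hfac : quotMap e N' = quotMap e N ≫ e.inverse.map (ModuleCat.ofHom
      (Submodule.mapQ N N' LinearMap.id (by simpa using hle))) := by
    simp only [quotMap, Category.assoc, ← Functor.map_comp]
    rfl
  rw [hfac]
  change (e.inverse.map _).hom.app V ((quotMap e N).hom.app V (one V)) = 0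
  rw [h, map_zero]

/-- The stalk functor composed with the inverse equivalence. -/
abbrev stalkInv (x : X) : ModuleCat.{u} R ⥤ ModuleCat.{u} (X.presheaf.stalk x) :=
  e.inverse ⋙ (QCohCat.isQCoh X).ι ⋙ OX.stalk x

/-- Near each point some finitely generated submodule has quotient without support. -/
theorem exists_finset_germ_eq_zero (x : X) :
    ∃ (s : Finset (e.functor.obj (str X))) (V : X.Opens), x ∈ V ∧
      (quotMap e (Submodule.span R (s : Set (e.functor.obj (str X))))).hom.app V (one V) = 0 := by
  classical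
  let N := e.functor.obj (str X)
  let G := stalkInv e x
  haveI : PreservesColimitsOfSize.{u, u} (OX.stalk x) := (OX.stalkSkyAdj x).leftAdjoint_preservesColimits
  let c : ∐ (fun _ : N => ModuleCat.of R R) ⟶ N :=
    Sigma.desc fun n => ModuleCat.ofHom (LinearMap.toSpanSingleton R N n)
  haveI : Epi c := (ModuleCat.epi_iff_surjective _).2 fun n => by
    refine ⟨Sigma.ι (fun _ : N => ModuleCat.of R R) n (1 : R), ?_⟩
    rw [← ConcreteCategory.comp_apply, Sigma.ι_desc]
    exact one_smul R n
  let d : Cofan (fun _ : N => ModuleCat.of R R) := Cofan.mk _ (Sigma.ι _)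
  have hd : IsColimit (Cofan.mk (G.obj (∐ fun _ : N => ModuleCat.of R R))
      fun n => G.map (Sigma.ι (fun _ : N => ModuleCat.of R R) n)) :=
    isColimitOfHasCoproductOfPreservesColimit G _
  let P : Submodule (X.presheaf.stalk x) (G.obj (∐ fun _ : N => ModuleCat.of R R)) :=
    ⨆ n : N, LinearMap.range (G.map (Sigma.ι (fun _ : N => ModuleCat.of R R) n)).hom
  have hP : P = ⊤ := by
    rw [← P.ker_mkQ, LinearMap.ker_eq_top]
    have : ModuleCat.ofHom P.mkQ = 0 := hd.hom_ext fun ⟨n⟩ => by
      ext a
      exact (Submodule.Quotient.mk_eq_zero P).2 (Submodule.mem_iSup_of_mem n ⟨a, rfl⟩)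
    exact congrArg ModuleCat.Hom.hom this
  haveI : Epi (G.map c) := by
    haveI := epi_hom (e.inverse.map c)
    exact (OX.stalk x).map_epi (e.inverse.map c).hom
  obtain ⟨a, ha⟩ := (ModuleCat.epi_iff_surjective (G.map c)).1 inferInstance
    (QCoh.stalkLin (e.unit.app (str X)).hom x
      ((Coh.structureModule X).presheaf.germ ⊤ x trivial (one ⊤)))
  obtain ⟨s, hs⟩ := Submodule.exists_finset_of_mem_iSup _ (show a ∈ P from hP ▸ trivial)
  set Q := Submodule.span R (s : Set N)
  have hkill : ∀ n ∈ s, Sigma.ι (fun _ : N => ModuleCat.of R R) n ≫ c ≫ ModuleCat.ofHom Q.mkQ = 0 := by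
    intro n hn
    rw [Sigma.ι_desc_assoc]
    ext
    refine (Submodule.Quotient.mk_eq_zero Q).2 ?_
    change (1 : R) • n ∈ Q
    exact Q.smul_mem _ (Submodule.subset_span hn)
  have h0 : (G.map (c ≫ ModuleCat.ofHom Q.mkQ)).hom a = 0 := by
    refine LinearMap.mem_ker.1 ((iSup₂_le fun n hn => ?_ : _ ≤ LinearMap.ker _) hs)
    rintro _ ⟨b, rfl⟩
    rw [LinearMap.mem_ker, ← ConcreteCategory.comp_apply, ← Functor.map_comp, hkill n hn,
      Functor.map_zero]
    rfl
  have h1 : (e.inverse.obj (ModuleCat.of R (N ⧸ Q))).obj.presheaf.germ ⊤ x trivial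
      ((quotMap e Q).hom.app ⊤ (one ⊤)) = 0 := by
    rw [← QCoh.stalkLin_germ]
    rw [Functor.map_comp, ConcreteCategory.comp_apply] at h0
    erw [ha] at h0
    exact (QCoh.stalkLin_comp _ _ _ _).trans h0
  obtain ⟨V, hxV, i₁, i₂, hV⟩ := TopCat.Presheaf.germ_eq _ x
    (show x ∈ (⊤ : X.Opens) from trivial) (show x ∈ (⊤ : X.Opens) from trivial) _ 0
    (h1.trans (map_zero _).symm)
  refine ⟨s, V, hxV, ?_⟩
  rw [map_zero, QCoh.map_app] at hV
  rwa [map_one'] at hV

/-- The image of the structure module is finitely generated. -/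
theorem finite_obj_str [CompactSpace X] : Module.Finite R (e.functor.obj (str X)) := by
  classical
  choose s V hxV hV using fun x => exists_finset_germ_eq_zero e x
  obtain ⟨t, ht⟩ := isCompact_univ.elim_finite_subcover (fun x : X => (V x : Set X))
    (fun x => (V x).isOpen) fun x _ => Set.mem_iUnion.2 ⟨x, hxV x⟩
  refine ⟨⟨t.biUnion s, eq_top_of_forall_notMem e _ fun x => ?_⟩⟩
  haveI := epi_hom (quotMap e (Submodule.span R (↑(t.biUnion s) : Set (e.functor.obj (str X)))))
  refine subsingleton_stalk_of_germ_eq_zero (quotMap e _).hom ?_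
  obtain ⟨y, hyt, hxy⟩ := Set.mem_iUnion₂.1 (ht (Set.mem_univ x))
  rw [← QCoh.germ_map _ (homOfLE (le_top : V y ≤ ⊤)) hxy, QCoh.map_app]
  refine (congrArg _ ?_).trans (map_zero _)
  refine (congrArg _ (map_one' (homOfLE (le_top : V y ≤ ⊤)))).trans ?_
  exact quotMap_app_mono e (Submodule.span_mono (Finset.coe_subset.2
    (Finset.subset_biUnion_of_mem s hyt))) (hV y)

theorem exists_surjective_residue {N : ModuleCat.{u} R} [Module.Finite R N] (m : Ideal R)
    [hm : m.IsMaximal] (h : Module.annihilator R N ≤ m) :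
    ∃ q : N ⟶ ModuleCat.of R (R ⧸ m), Epi q := by
  classical
  have hne : m • (⊤ : Submodule R N) ≠ ⊤ := fun he => by
    obtain ⟨r, hr, hr'⟩ := Submodule.exists_sub_one_mem_and_smul_eq_zero_of_fg_of_le_smul m ⊤
      Module.Finite.fg_top he.ge
    exact hm.ne_top ((Ideal.eq_top_iff_one m).2 (by
      simpa using m.sub_mem (h (Module.mem_annihilator.2 fun n => hr' n trivial)) hr))
  letI := Ideal.Quotient.field m
  haveI : Nontrivial (N ⧸ m • (⊤ : Submodule R N)) := Submodule.Quotient.nontrivial_iff.2 hne
  obtain ⟨v, hv⟩ := exists_ne (0 : N ⧸ m • (⊤ : Submodule R N))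
  let b := Module.Basis.ofVectorSpace (R ⧸ m) (N ⧸ m • (⊤ : Submodule R N))
  obtain ⟨i, hi⟩ : ∃ i, b.repr v i ≠ 0 := by
    by_contra! hh
    exact hv (b.repr.map_eq_zero_iff.1 (Finsupp.ext hh))
  let φ : N →ₗ[R] R ⧸ m := ((b.coord i).restrictScalars R).comp (Submodule.mkQ _)
  refine ⟨ModuleCat.ofHom φ, (ModuleCat.epi_iff_surjective _).2 fun y => ?_⟩
  obtain ⟨w, hw⟩ := Submodule.mkQ_surjective _ v
  obtain ⟨a, ha⟩ := Ideal.Quotient.mk_surjective (y / b.repr v i)
  refine ⟨a • w, ?_⟩
  change φ (a • w) = y
  rw [map_smul, show φ w = b.repr v i from congrArg (fun z => b.coord i z) hw, Algebra.smul_def]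
  exact (congrArg (· * _) ha).trans (div_mul_cancel₀ y hi)

/-- Scalars killing two quotients of the structure module with disjoint supports generate `R`. -/
theorem annihilator_sup_eq_top [CompactSpace X] {C D : QCohCat.QCoh X} (π : str X ⟶ C) [Epi π.hom]
    (ρ : str X ⟶ D) [Epi ρ.hom] (h : Disjoint (CohB1.support C.obj) (CohB1.support D.obj)) :
    Module.annihilator R (e.functor.obj C) ⊔ Module.annihilator R (e.functor.obj D) = ⊤ := by
  by_contra hne
  obtain ⟨m, hm, hle⟩ := Ideal.exists_le_maximal _ hne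
  haveI := finite_obj_str e
  have hfin : ∀ {E : QCohCat.QCoh X} (σ : str X ⟶ E) [Epi σ.hom],
      Module.Finite R (e.functor.obj E) := fun {E} σ _ => by
    haveI : Epi σ := (QCohCat.isQCoh X).ι.epi_of_epi_map (by assumption)
    exact Module.Finite.of_surjective (e.functor.map σ).hom
      ((ModuleCat.epi_iff_surjective _).1 inferInstance)
  haveI := hfin π
  haveI := hfin ρ
  obtain ⟨q, _⟩ := exists_surjective_residue (N := e.functor.obj C) m (le_sup_left.trans hle)
  obtain ⟨p, _⟩ := exists_surjective_residue (N := e.functor.obj D) m (le_sup_right.trans hle)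
  have key : ∀ {E : QCohCat.QCoh X} (w : e.functor.obj E ⟶ ModuleCat.of R (R ⧸ m)) [Epi w],
      CohB1.support (e.inverse.obj (ModuleCat.of R (R ⧸ m))).obj ⊆ CohB1.support E.obj :=
    fun {E} w _ => by
      haveI := epi_hom (e.unit.app E ≫ e.inverse.map w)
      exact QCoh.support_subset_of_epi (e.unit.app E ≫ e.inverse.map w).hom
  have hz := e.functor.map_isZero (eq_zero_of_support_eq_empty
    (Set.eq_empty_of_forall_notMem fun x hx => Set.disjoint_left.1 h (key q hx) (key p hx)))
  have := ModuleCat.isZero_iff_subsingleton.1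
    (hz.of_iso (e.counitIso.app (ModuleCat.of R (R ⧸ m))).symm)
  exact hm.ne_top (Submodule.Quotient.subsingleton_iff.1 this)

theorem exists_affine_basicOpen [CompactSpace X] {x : X} (hx : IsClosed ({x} : Set X)) :
    ∃ r : R, x ∈ X.basicOpen (scalHom e r) ∧ IsAffineOpen (X.basicOpen (scalHom e r)) := by
  obtain ⟨U, hU, hxU, -⟩ := Opens.isBasis_iff_nbhd.1 X.isBasis_affineOpens (Opens.mem_top x)
  obtain ⟨C, π, _, hC⟩ := exists_quotient_support_eq
    (X := X) ⟨(U : Set X)ᶜ, U.isOpen.isClosed_compl⟩
  obtain ⟨D, ρ, _, hD⟩ := exists_quotient_support_eq (X := X) ⟨{x}, hx⟩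
  have hdis : Disjoint (CohB1.support C.obj) (CohB1.support D.obj) := by
    rw [hC, hD]
    exact Set.disjoint_singleton_right.2 fun h => h hxU
  have h1 : (1 : R) ∈ Module.annihilator R (e.functor.obj C) ⊔
      Module.annihilator R (e.functor.obj D) := by
    rw [annihilator_sup_eq_top e π ρ hdis]
    trivial
  obtain ⟨r, hr, s, hs, hrs⟩ := Submodule.mem_sup.1 h1
  have hr' : r • 𝟙 (e.functor.obj C) = 0 :=
    ModuleCat.hom_ext (LinearMap.ext fun n => Module.mem_annihilator.1 hr n)
  have hs' : s • 𝟙 (e.functor.obj D) = 0 :=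
    ModuleCat.hom_ext (LinearMap.ext fun n => Module.mem_annihilator.1 hs n)
  have hxs : x ∉ X.basicOpen (scalHom e s) := fun hxs =>
    notMem_support_of_mem_basicOpen e ρ hs' hxs (by rw [hD]; exact rfl)
  have hxr : x ∈ X.basicOpen (scalHom e r) := by
    rw [Scheme.mem_basicOpen X _ x (Opens.mem_top x)] at hxs ⊢
    refine (IsLocalRing.isUnit_or_isUnit_of_isUnit_add ?_).resolve_right hxs
    rw [← map_add, ← map_add, hrs, map_one, map_one]
    exact isUnit_one
  have hle : X.basicOpen (scalHom e r) ≤ U := fun y hy => by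
    by_contra hyU
    exact notMem_support_of_mem_basicOpen e π hr' hy (by rw [hC]; exact hyU)
  refine ⟨r, hxr, ?_⟩
  have h2 := hU.basicOpen (X.presheaf.map (homOfLE (le_top : U ≤ ⊤)).op (scalHom e r))
  rwa [Scheme.basicOpen_res, inf_eq_right.2 hle] at h2

include e in
/-- If quasi-coherent modules form a module category, the scheme is affine. -/
theorem isAffine_of_equivalence [CompactSpace X] : IsAffine X := by
  classical
  let J : Set R := {r | IsAffineOpen (X.basicOpen (scalHom e r))}
  refine isAffine_of_isAffineOpen_basicOpen (scalHom e '' J) ?_ fun i ⟨r, hr, hi⟩ => hi ▸ hr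
  rw [← Ideal.map_span]
  have hcov : ∀ x : X, ∃ r ∈ J, x ∈ X.basicOpen (scalHom e r) := fun x => by
    obtain ⟨y, hy, hyc⟩ := IsClosed.exists_closed_singleton (isClosed_closure (s := ({x} : Set X)))
      ⟨x, subset_closure rfl⟩
    obtain ⟨r, hyr, hr⟩ := exists_affine_basicOpen e hyc
    exact ⟨r, hr, (specializes_iff_mem_closure.2 hy).mem_open (X.basicOpen _).isOpen hyr⟩
  let N := e.functor.obj (str X)
  let Q : Submodule R N := Ideal.span J • ⊤
  have hQ : Q = ⊤ := eq_top_of_forall_notMem e Q fun x => by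
    obtain ⟨r, hr, hxr⟩ := hcov x
    haveI := epi_hom (quotMap e Q)
    refine notMem_support_of_mem_basicOpen e (quotMap e Q) ?_ hxr
    have hzero : r • 𝟙 (ModuleCat.of R (N ⧸ Q)) = 0 := by
      refine ModuleCat.hom_ext (LinearMap.ext fun n => ?_)
      obtain ⟨n, rfl⟩ := Submodule.mkQ_surjective Q n
      exact (Submodule.Quotient.mk_eq_zero Q).2 (Submodule.smul_mem_smul (Ideal.subset_span hr) trivial)
    let M : ModuleCat.{u} R := ModuleCat.of R (N ⧸ Q)
    let i : e.functor.obj (e.inverse.obj M) ≅ M := e.counitIso.app M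
    have : r • 𝟙 (e.functor.obj (e.inverse.obj M)) = i.hom ≫ (r • 𝟙 M) ≫ i.inv := by
      rw [Linear.smul_comp, Category.id_comp, Linear.comp_smul, i.hom_inv_id]
    rw [this, show r • 𝟙 M = 0 from hzero, zero_comp, comp_zero]
  haveI := finite_obj_str e
  obtain ⟨r, hr, hr'⟩ := Submodule.exists_sub_one_mem_and_smul_eq_zero_of_fg_of_le_smul
    (Ideal.span J) (⊤ : Submodule R N) Module.Finite.fg_top hQ.ge
  have h0 : scalHom e r = 0 := by
    have hz : scal e r (str X) = 0 := e.functor.map_injective (by
      rw [map_scal, Functor.map_zero]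
      exact ModuleCat.hom_ext (LinearMap.ext fun n => hr' n trivial))
    change scalFun e r = 0
    rw [scalFun, hz]
    rfl
  rw [Ideal.eq_top_iff_one]
  have := (Ideal.map (scalHom e) (Ideal.span J)).neg_mem (Ideal.mem_map_of_mem (scalHom e) hr)
  rwa [map_sub, h0, map_one, zero_sub, neg_neg] at this

end Equivalence

end GrothLib.QCohCat20
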